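import Groth.Agent.L05.RatPow.MaxModif
import Mathlib.RingTheory.Ideal.KrullsHeightTheorem

/-! Functions factoring on the components of the closed fibre of a modification. -/

set_option autoImplicit false
set_option linter.style.haveILetI false
set_option maxHeartbeats 1000000
set_option backward.isDefEq.respectTransparency false
set_option backward.isDefEq.respectTransparency.types false

universe u

open CategoryTheory CategoryTheory.Limits AlgebraicGeometry TopologicalSpace Opposite

noncomputable section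

namespace Groth.L05.FibreFactor

variable {A : Type u} [CommRing A] [IsDomain A] [IsLocalRing A] [IsNoetherianRing A]
  {X : Scheme.{u}} (f : X ⟶ Spec (CommRingCat.of A)) [IsIntegral X]

local notation "cl" => IsLocalRing.closedPoint A

/-- The map from the base to a local ring. -/
abbrev χ (x : X) : A →+* X.presheaf.stalk x := (X.presheaf.germ ⊤ x trivial).hom.comp (Coh.toGlobal f)

omit [IsDomain A] [IsLocalRing A] [IsNoetherianRing A] [IsIntegral X] in
theorem comap_χ {x : X} (Q : Spec (X.presheaf.stalk x)) :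
    ((f (X.fromSpecStalk x Q) : Spec (CommRingCat.of A)) : PrimeSpectrum A).asIdeal = Q.asIdeal.comap (χ f x) := by
  have h : X.fromSpecStalk x ≫ f = Spec.map (CommRingCat.ofHom (χ f x)) := by
    refine ext_of_isAffine ?_
    rw [Scheme.Hom.comp_appTop, Scheme.fromSpecStalk_appTop, ← cancel_epi (Scheme.ΓSpecIso (CommRingCat.of A)).inv,
      ← Scheme.ΓSpecIso_inv_naturality]
    rfl
  rw [← Scheme.Hom.comp_apply, h]
  rfl

/-- No point of the closed fibre of a non-trivial modification of a normal base is isolated in it. -/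
theorem not_isOpen_singleton [IsIntegrallyClosed A] [IsProper f]
    (hbir : Groth.L05.MinDesing.IsBir f) (hf : ¬ IsIso f) (x : ↥(f ⁻¹' {(cl : Spec (CommRingCat.of A))})) :
    ¬ IsOpen ({x} : Set ↥(f ⁻¹' {(cl : Spec (CommRingCat.of A))})) := by
  obtain ⟨U, hU, hUi⟩ := hbir
  haveI := hUi
  obtain ⟨hξ, hbij⟩ := Groth.L13.RatSing.birational_of_isIso_restrict f U hU
  have hS : Pi1.IsNormalScheme (Spec (CommRingCat.of A)) := Groth.L05.NeronFinite.isNormalScheme_spec fun P _ =>
    ⟨inferInstance, isIntegrallyClosed_of_isLocalization _ P.primeCompl P.primeCompl_le_nonZeroDivisors⟩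
  obtain ⟨V, hVi, hV, -⟩ := Groth.Agent.S11555.result f hS hξ hbij
  haveI := hVi
  have hc : (cl : Spec (CommRingCat.of A)) ∉ (V : Set (Spec (CommRingCat.of A))) := fun hc => hf (by
    have hVtop : V = ⊤ := Opens.ext (Set.eq_univ_of_forall fun p =>
      (IsLocalRing.specializes_closedPoint p).mem_open V.2 hc)
    subst hVtop
    exact ((MorphismProperty.isomorphisms Scheme.{u}).arrow_mk_iso_iff
      (Arrow.isoMk X.topIso (Spec (CommRingCat.of A)).topIso (by simp) : Arrow.mk (f ∣_ ⊤) ≅ Arrow.mk f)).1 hVi)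
  intro ho
  let e : ↥(f.fiber (cl : Spec (CommRingCat.of A))) ≃ₜ ↥(f ⁻¹' {(cl : Spec (CommRingCat.of A))}) :=
    (f.fiberι cl).isEmbedding.toHomeomorph.trans (Homeomorph.setCongr (f.range_fiberι cl))
  refine hV _ hc (e.symm x) ?_
  rw [show ({e.symm x} : Set _) = e ⁻¹' {x} from Set.ext fun z =>
    ⟨fun hz => by rw [Set.mem_singleton_iff.1 hz]; exact e.apply_symm_apply x,
      fun hz => (e.symm_apply_apply z).symm.trans (congrArg e.symm hz)⟩]
  exact ho.preimage e.continuous

variable [IsIntegrallyClosed A] [IsProper f]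

/-- On a component of the closed fibre there is a closed point and a local function vanishing there, not on the
component, and dividing a nonzero function of the base. -/
theorem exists_point_factor (hbir : Groth.L05.MinDesing.IsBir f) (hf : ¬ IsIso f)
    (C : Set ↥(f ⁻¹' {(cl : Spec (CommRingCat.of A))}))
    (hC : C ∈ irreducibleComponents ↥(f ⁻¹' {(cl : Spec (CommRingCat.of A))})) :
    ∃ (x ξ : ↥(f ⁻¹' {(cl : Spec (CommRingCat.of A))})) (hξx : (ξ : X) ⤳ (x : X)) (a : A),
      x ∈ C ∧ IsGenericPoint ξ C ∧ IsClosed ({(x : X)} : Set X) ∧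
      (∀ C' ∈ irreducibleComponents ↥(f ⁻¹' {(cl : Spec (CommRingCat.of A))}), C' ≠ C → x ∉ C') ∧ a ≠ 0 ∧
      ∃ g q : X.presheaf.stalk (x : X), g ∈ IsLocalRing.maximalIdeal (X.presheaf.stalk (x : X)) ∧
        χ f (x : X) a = g * q ∧ IsUnit ((X.presheaf.stalkSpecializes hξx).hom g) := by
  classical
  haveI : IsLocallyNoetherian X := LocallyOfFiniteType.isLocallyNoetherian f
  haveI : CompactSpace X := QuasiCompact.compactSpace_of_compactSpace f
  haveI : AlgebraicGeometry.IsNoetherian X := {}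
  have hcl : IsClosed ({(cl : Spec (CommRingCat.of A))} : Set (Spec (CommRingCat.of A))) :=
    IsLocalRing.isClosed_singleton_closedPoint A
  have hSc : IsClosed (f ⁻¹' {(cl : Spec (CommRingCat.of A))}) := hcl.preimage f.continuous
  haveI : NoetherianSpace ↥(f ⁻¹' {(cl : Spec (CommRingCat.of A))}) := Topology.IsInducing.subtypeVal.noetherianSpace
  have hfin : (irreducibleComponents ↥(f ⁻¹' {(cl : Spec (CommRingCat.of A))})).Finite := NoetherianSpace.finite_irreducibleComponents
  have hCc : IsClosed C := isClosed_of_mem_irreducibleComponents C hC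
  -- the generic point
  obtain ⟨ξ₀, hξ₀⟩ := QuasiSober.sober (hC.1.image Subtype.val continuous_subtype_val.continuousOn)
    (hSc.isClosedMap_subtype_val C hCc)
  obtain ⟨ξ, hξC, hξ⟩ : ξ₀ ∈ Subtype.val '' C := hξ₀.mem
  have hgen : IsGenericPoint ξ C := by
    rw [IsGenericPoint, Topology.IsInducing.subtypeVal.closure_eq_preimage_closure_image, Set.image_singleton, hξ,
      hξ₀.def, Subtype.val_injective.preimage_image]
  -- a closed point on this component only
  let O : Set ↥(f ⁻¹' {(cl : Spec (CommRingCat.of A))}) := C \ ⋃₀ (irreducibleComponents ↥(f ⁻¹' {(cl : Spec (CommRingCat.of A))}) \ {C})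
  have hOo : IsOpen O := by
    have h1 : O = (⋃₀ (irreducibleComponents ↥(f ⁻¹' {(cl : Spec (CommRingCat.of A))}) \ {C}))ᶜ := by
      refine Set.Subset.antisymm (fun z hz => hz.2) fun z hz => ⟨?_, hz⟩
      obtain ⟨D, hD, hzD⟩ := Set.mem_sUnion.1 ((sUnion_irreducibleComponents (X := ↥(f ⁻¹' {(cl : Spec (CommRingCat.of A))}))).ge (Set.mem_univ z))
      rcases eq_or_ne D C with rfl | hne
      · exact hzD
      · exact (hz (Set.mem_sUnion.2 ⟨D, ⟨hD, hne⟩, hzD⟩ : z ∈ ⋃₀ (irreducibleComponents ↥(f ⁻¹' {(cl : Spec (CommRingCat.of A))}) \ {C}))).elim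
    rw [h1, isOpen_compl_iff, Set.sUnion_eq_biUnion]
    exact (hfin.sdiff).isClosed_biUnion fun D hD => isClosed_of_mem_irreducibleComponents D hD.1
  have hOne : O.Nonempty := by
    by_contra hO
    rw [Set.not_nonempty_iff_eq_empty, Set.sdiff_eq_empty] at hO
    obtain ⟨D, hD, hCD⟩ := isIrreducible_iff_sUnion_isClosed.1 hC.1 (hfin.sdiff.toFinset)
      (fun D hD => isClosed_of_mem_irreducibleComponents D ((Set.Finite.mem_toFinset _).1 hD).1)
      (by rw [Set.Finite.coe_toFinset]; exact hO)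
    have hD' := (Set.Finite.mem_toFinset _).1 hD
    exact hD'.2 (Set.Subset.antisymm (hC.2 hD'.1.1 hCD) hCD)
  let e : ↥(f.fiber (cl : Spec (CommRingCat.of A))) ≃ₜ ↥(f ⁻¹' {(cl : Spec (CommRingCat.of A))}) :=
    (f.fiberι cl).isEmbedding.toHomeomorph.trans (Homeomorph.setCongr (f.range_fiberι cl))
  haveI : JacobsonSpace ↥(f.fiber (cl : Spec (CommRingCat.of A))) :=
    LocallyOfFiniteType.jacobsonSpace (f.fiberToSpecResidueField cl)
  obtain ⟨w, hwO, hwc⟩ := nonempty_inter_closedPoints (X := ↥(f.fiber (cl : Spec (CommRingCat.of A))))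
    (Z := e ⁻¹' O) (hOne.preimage e.surjective) (hOo.preimage e.continuous).isLocallyClosed
  let x := e w
  have hxc : IsClosed ({(x : X)} : Set X) := by
    have h1 : IsClosed ({x} : Set ↥(f ⁻¹' {(cl : Spec (CommRingCat.of A))})) := by
      rw [show ({x} : Set ↥(f ⁻¹' {(cl : Spec (CommRingCat.of A))})) = e '' {w} by rw [Set.image_singleton]]
      exact e.isClosedMap _ hwc
    simpa using hSc.isClosedMap_subtype_val _ h1
  have hxC : x ∈ C := hwO.1
  have honly : ∀ C' ∈ irreducibleComponents ↥(f ⁻¹' {(cl : Spec (CommRingCat.of A))}), C' ≠ C → x ∉ C' := fun C' hC' hne hx =>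
    hwO.2 (Set.mem_sUnion.2 ⟨C', ⟨hC', hne⟩, hx⟩)
  have hξx : (ξ : X) ⤳ (x : X) := (hgen.specializes hxC).map continuous_subtype_val
  have hne : (ξ : X) ≠ (x : X) := fun h => by
    have hξ' : ξ = x := Subtype.ext h
    refine not_isOpen_singleton f hbir hf x ?_
    rw [show ({x} : Set ↥(f ⁻¹' {(cl : Spec (CommRingCat.of A))})) = O from Set.Subset.antisymm (Set.singleton_subset_iff.2 hwO) fun z hz => ?_]
    · exact hOo
    · have h1 : z ∈ closure ({x} : Set ↥(f ⁻¹' {(cl : Spec (CommRingCat.of A))})) := hξ' ▸ hgen.def.ge hz.1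
      have h2 : IsClosed ({x} : Set ↥(f ⁻¹' {(cl : Spec (CommRingCat.of A))})) := by
        rw [show ({x} : Set ↥(f ⁻¹' {(cl : Spec (CommRingCat.of A))})) = Subtype.val ⁻¹' {(x : X)} from Set.ext fun z => Subtype.ext_iff]
        exact hxc.preimage continuous_subtype_val
      rwa [h2.closure_eq] at h1
  -- the local ring
  let R := X.presheaf.stalk (x : X)
  let ι := X.fromSpecStalk (x : X)
  haveI : IsDomain R := inferInstance
  haveI : IsNoetherianRing R := inferInstance
  let P : Spec R := Spec.map (X.presheaf.stalkSpecializes hξx) (IsLocalRing.closedPoint (X.presheaf.stalk (ξ : X)))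
  have hP : ι P = (ξ : X) := by
    rw [← Scheme.Hom.comp_apply, Scheme.SpecMap_stalkSpecializes_fromSpecStalk, Scheme.fromSpecStalk_closedPoint]
  have hPmax : ¬ IsLocalRing.maximalIdeal R ≤ P.asIdeal := fun h => hne (by
    rw [← hP, show P = IsLocalRing.closedPoint R from PrimeSpectrum.ext
      (le_antisymm (IsLocalRing.le_maximalIdeal P.2.ne_top) h), Scheme.fromSpecStalk_closedPoint])
  obtain ⟨g, hgm, hgP⟩ := SetLike.not_le_iff_exists.1 hPmax
  have hu : IsUnit ((X.presheaf.stalkSpecializes hξx).hom g) := not_not.1 fun h =>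
    hgP ((IsLocalRing.mem_maximalIdeal _).2 h)
  have hg0 : g ≠ 0 := fun h => hgP (h ▸ P.asIdeal.zero_mem)
  have hQ : ∀ Q ∈ (Ideal.span {g}).minimalPrimes, Q.comap (χ f (x : X)) ≠ ⊥ := by
    intro Q hQ hbot
    haveI := hQ.1.1
    have hgQ : g ∈ Q := hQ.1.2 (Ideal.mem_span_singleton_self g)
    obtain ⟨U, hU, hUi⟩ := id hbir
    haveI := hUi
    obtain ⟨e', -⟩ := Groth.L05.PtSeq.ffMap_bijective f U hU
    have hηU := Groth.L05.MinDesing.genericPoint_mem hU
    have h1 : f (ι ⟨Q, inferInstance⟩) = genericPoint (Spec (CommRingCat.of A)) := by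
      rw [genericPoint_eq_bot_of_affine]
      exact PrimeSpectrum.ext ((comap_χ f _).trans hbot)
    have h2 : ι ⟨Q, inferInstance⟩ = genericPoint X :=
      congrArg Subtype.val ((f ∣_ U).homeomorph.injective
        (a₁ := ⟨ι ⟨Q, inferInstance⟩, show f _ ∈ U by rw [h1]; exact hηU⟩)
        (a₂ := ⟨genericPoint X, show f _ ∈ U by rw [e']; exact hηU⟩)
        (Subtype.ext ((morphismRestrict_base_coe f U ⟨ι ⟨Q, inferInstance⟩, show f _ ∈ U by rw [h1]; exact hηU⟩).trans
          ((h1.trans e'.symm).trans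
            (morphismRestrict_base_coe f U ⟨genericPoint X, show f _ ∈ U by rw [e']; exact hηU⟩).symm))))
    rw [← Groth.L05.RatSpread.fromSpecStalk_genericPoint (x : X)] at h2
    have h3 := ι.isEmbedding.injective h2
    rw [genericPoint_eq_bot_of_affine] at h3
    exact hg0 (by simpa using (congrArg PrimeSpectrum.asIdeal h3).le hgQ)
  choose b hb hb0 using fun Q : ↥((Ideal.span {g}).minimalPrimes) => Submodule.exists_mem_ne_zero_of_ne_bot (hQ Q Q.2)
  haveI : Fintype ↥((Ideal.span {g}).minimalPrimes) := (Ideal.finite_minimalPrimes_of_isNoetherianRing R _).fintype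
  have hrad : χ f (x : X) (∏ Q, b Q) ∈ (Ideal.span {g}).radical := by
    rw [← Ideal.sInf_minimalPrimes]
    refine Submodule.mem_sInf.2 fun Q hQ' => ?_
    haveI := hQ'.1.1
    rw [← Finset.mul_prod_erase _ _ (Finset.mem_univ (⟨Q, hQ'⟩ : ↥((Ideal.span {g}).minimalPrimes))), map_mul]
    exact Ideal.mul_mem_right _ _ (hb ⟨Q, hQ'⟩)
  obtain ⟨k, hk⟩ := hrad
  rw [← map_pow] at hk
  obtain ⟨q, hq⟩ := Ideal.mem_span_singleton.1 hk
  exact ⟨x, ξ, hξx, _, hxC, hgen, hxc, honly, pow_ne_zero k (Finset.prod_ne_zero_iff.2 fun Q _ => hb0 Q), g, q, hgm, hq, hu⟩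

end Groth.L05.FibreFactor
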