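import Groth.Agent.L05.FibreFactor.Basic
import Groth.Agent.L10.HullFinite
import Groth.Agent.L22.Cyc.OrdGen
import Groth.Agent.L18.ValCritEss
import Mathlib.RingTheory.Valuation.Discrete.IsDiscreteValuationRing
import Mathlib.RingTheory.Valuation.LocalSubring
import Mathlib.Algebra.Ring.GeomSum
import Mathlib.Algebra.Polynomial.Inductions

/-! Negativity: rational functions with poles on the closed fibre of a modification only, given up to regular
functions on an open cover, are regular. -/

set_option autoImplicit false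
set_option linter.style.haveILetI false
set_option maxHeartbeats 1000000
set_option backward.isDefEq.respectTransparency false
set_option backward.isDefEq.respectTransparency.types false

universe u

open CategoryTheory CategoryTheory.Limits AlgebraicGeometry TopologicalSpace Opposite
open scoped WithZero

noncomputable section

namespace Groth.L05.FibreFactor

/-- No nonzero element of the maximal ideal is algebraic over the residue field of the base. -/
theorem false_of_eval {A R L : Type u} [CommRing A] [IsLocalRing A] [CommRing R] [IsLocalRing R] [Field L]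
    (χ' : A →+* R) (τ : R →+* L) (hψ : ∀ a ∈ IsLocalRing.maximalIdeal A, τ (χ' a) = 0) {m : R}
    (hm : m ∈ IsLocalRing.maximalIdeal R) (hm0 : τ m ≠ 0) :
    ∀ (n : ℕ) (p : Polynomial A), IsUnit (p.coeff n) → Polynomial.eval₂ (τ.comp χ') (τ m) p = 0 → False := by
  have hsplit : ∀ p : Polynomial A, IsUnit (p.coeff 0) → Polynomial.eval₂ (τ.comp χ') (τ m) p = 0 → False := by
    intro p hu hp
    have h1 : τ (Polynomial.eval₂ χ' m p) = 0 := (Polynomial.hom_eval₂ p χ' τ m).trans hp
    have h2 : IsUnit (Polynomial.eval₂ χ' m p) := by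
      rw [← Polynomial.X_mul_divX_add p, Polynomial.eval₂_add, Polynomial.eval₂_mul, Polynomial.eval₂_X,
        Polynomial.eval₂_C]
      by_contra hc
      have h3 : m * Polynomial.eval₂ χ' m p.divX + χ' (p.coeff 0) ∈ IsLocalRing.maximalIdeal R :=
        (IsLocalRing.mem_maximalIdeal _).2 hc
      exact (IsLocalRing.mem_maximalIdeal _).1
        ((Ideal.add_mem_iff_right _ (Ideal.mul_mem_right _ _ hm)).1 h3) (hu.map χ')
    exact ((h2.map τ).ne_zero) h1
  intro n
  induction n with
  | zero => exact hsplit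
  | succ n ih =>
    intro p hu hp
    by_cases h0 : IsUnit (p.coeff 0)
    · exact hsplit p h0 hp
    refine ih p.divX (by rwa [Polynomial.coeff_divX]) ?_
    rw [← Polynomial.X_mul_divX_add p, Polynomial.eval₂_add, Polynomial.eval₂_mul, Polynomial.eval₂_X,
      Polynomial.eval₂_C, RingHom.comp_apply, hψ _ ((IsLocalRing.mem_maximalIdeal _).2 h0), add_zero] at hp
    exact (mul_eq_zero.1 hp).resolve_left hm0

variable {X : Scheme.{u}} [IsIntegral X]

theorem algebraMap_stalkSpecializes {y η : X} (h : η ⤳ y) (b : X.presheaf.stalk y) :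
    algebraMap (X.presheaf.stalk η) X.functionField ((X.presheaf.stalkSpecializes h).hom b) =
      algebraMap (X.presheaf.stalk y) X.functionField b := by
  rw [RingHom.algebraMap_toAlgebra, RingHom.algebraMap_toAlgebra, ← ConcreteCategory.comp_apply,
    TopCat.Presheaf.stalkSpecializes_comp]

/-- A normal local ring contains every rational function regular at its one-dimensional generalisations. -/
theorem mem_range_of_dim_one [IsLocallyNoetherian X] (hn : Pi1.IsNormalScheme X) (y : X) (z : X.functionField)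
    (h : ∀ η : X, η ⤳ y → ringKrullDim (X.presheaf.stalk η) = 1 →
      z ∈ Set.range (algebraMap (X.presheaf.stalk η) X.functionField)) :
    z ∈ Set.range (algebraMap (X.presheaf.stalk y) X.functionField) := by
  haveI := (hn y).2
  refine Groth.L10.Hull.mem_range_of_height_one z fun P _ hP => ?_
  let Q : Spec (X.presheaf.stalk y) := ⟨P, inferInstance⟩
  let η := X.fromSpecStalk y Q
  have hη : η ⤳ y := by
    have : η ∈ Set.range (X.fromSpecStalk y) := ⟨Q, rfl⟩
    rwa [Scheme.range_fromSpecStalk] at this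
  have hQ : Spec.map (X.presheaf.stalkSpecializes hη) (IsLocalRing.closedPoint (X.presheaf.stalk η)) = Q :=
    (X.fromSpecStalk y).isEmbedding.injective (by
      rw [← Scheme.Hom.comp_apply, Scheme.SpecMap_stalkSpecializes_fromSpecStalk, Scheme.fromSpecStalk_closedPoint])
  letI := (X.presheaf.stalkSpecializes hη).hom.toAlgebra
  have hker : RingHom.ker (Cyc.specMap y η hη) = P := by
    refine Eq.trans ?_ (congrArg PrimeSpectrum.asIdeal hQ)
    ext b
    rw [RingHom.mem_ker, Groth.L22.Cyc.specMap_eq_residue]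
    exact IsLocalRing.residue_eq_zero_iff _
  haveI : IsLocalization.AtPrime (X.presheaf.stalk η) P := by
    have h1 := Groth.L22.Cyc.isLocalization_stalkSpecializes hη
    simp only [hker] at h1
    exact h1
  obtain ⟨c, hc⟩ := h η hη (by
    rw [IsLocalization.AtPrime.ringKrullDim_eq_height P (X.presheaf.stalk η), hP]
    rfl)
  obtain ⟨a, s, rfl⟩ := IsLocalization.exists_mk'_eq P.primeCompl c
  refine ⟨s, s.2, a, ?_⟩
  rw [← hc, ← algebraMap_stalkSpecializes hη, ← algebraMap_stalkSpecializes hη (s : X.presheaf.stalk y), ← map_mul]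
  exact congrArg _ (IsLocalization.mk'_spec' (X.presheaf.stalk η) a s).symm

variable {A : Type u} [CommRing A] [IsDomain A] [IsLocalRing A] [IsNoetherianRing A] [IsIntegrallyClosed A]
  (f : X ⟶ Spec (CommRingCat.of A)) [IsProper f]

local notation "cl" => IsLocalRing.closedPoint A

omit [IsDomain A] [IsNoetherianRing A] [IsIntegrallyClosed A] [IsIntegral X] [IsProper f] in
theorem χ_mem_maximalIdeal {x : X} (hx : f x = (cl : Spec (CommRingCat.of A))) {a : A}
    (ha : a ∈ IsLocalRing.maximalIdeal A) : χ f x a ∈ IsLocalRing.maximalIdeal (X.presheaf.stalk x) := by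
  have h := comap_χ f (x := x) (IsLocalRing.closedPoint (X.presheaf.stalk x))
  rw [Scheme.fromSpecStalk_closedPoint, hx] at h
  exact (h ▸ ha : a ∈ (IsLocalRing.closedPoint (X.presheaf.stalk x)).asIdeal.comap (χ f x))

omit [IsDomain A] [IsLocalRing A] [IsNoetherianRing A] [IsIntegrallyClosed A] [IsProper f] in
theorem algebraMap_χ (x : X) (a : A) :
    algebraMap (X.presheaf.stalk x) X.functionField (χ f x a) = χ f (genericPoint X) a := by
  rw [RingHom.algebraMap_toAlgebra]
  exact TopCat.Presheaf.germ_stalkSpecializes_apply X.presheaf (show x ∈ (⊤ : X.Opens) from trivial)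
    ((genericPoint_spec X).specializes trivial) (Coh.toGlobal f a)

omit [IsDomain A] [IsLocalRing A] [IsNoetherianRing A] [IsIntegrallyClosed A] [IsIntegral X] [IsProper f] in
theorem fromSpecStalk_comp (x : X) : X.fromSpecStalk x ≫ f = Spec.map (CommRingCat.ofHom (χ f x)) := by
  refine ext_of_isAffine ?_
  rw [Scheme.Hom.comp_appTop, Scheme.fromSpecStalk_appTop, ← cancel_epi (Scheme.ΓSpecIso (CommRingCat.of A)).inv,
    ← Scheme.ΓSpecIso_inv_naturality]
  rfl

omit [IsDomain A] [IsLocalRing A] [IsNoetherianRing A] [IsIntegrallyClosed A] [IsIntegral X] in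
/-- By properness, a residue regular at every specialisation is integral over the base. -/
theorem isIntegralElem_of_forall_center (η : X) (c : X.residueField η)
    (h : ∀ (y : X) (hy : η ⤳ y), ∃ b : X.presheaf.stalk y, X.residue η ((X.presheaf.stalkSpecializes hy).hom b) = c) :
    ((X.residue η).hom.comp (χ f η)).IsIntegralElem c := by
  let ψ : A →+* X.residueField η := (X.residue η).hom.comp (χ f η)
  have hmem : ∀ V : ValuationSubring (X.residueField η), Set.range ψ ⊆ V.toSubring → c ∈ V := by
    intro V hV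
    let R₂ : CommRingCat.of A ⟶ CommRingCat.of V :=
      CommRingCat.ofHom (ψ.codRestrict V.toSubring fun b => hV ⟨b, rfl⟩)
    have hsq : X.fromSpecResidueField η ≫ f =
        Spec.map (CommRingCat.ofHom (algebraMap V (X.residueField η))) ≫ Spec.map R₂ := by
      rw [← Spec.map_comp, Scheme.fromSpecResidueField, Category.assoc, fromSpecStalk_comp, ← Spec.map_comp]
      rfl
    have H : ValuativeCriterion.Existence f :=
      ((IsProper.eq_valuativeCriterion ▸ ‹IsProper f› : _).1.1.1).existence
    obtain ⟨l, hl₁, -⟩ := (H { R := V, K := X.residueField η, commSq := ⟨hsq⟩, .. }).exists_lift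
    dsimp only at hl₁
    let y := l (IsLocalRing.closedPoint V)
    have hy : η ⤳ y := by
      rw [← Scheme.fromSpecResidueField_apply η (IsLocalRing.closedPoint (X.residueField η)), ← hl₁]
      exact (IsLocalRing.specializes_closedPoint _).map l.continuous
    obtain ⟨b, hb⟩ := h y hy
    have key : X.presheaf.stalkSpecializes hy ≫ X.residue η =
        Scheme.stalkClosedPointTo l ≫ CommRingCat.ofHom (algebraMap V (X.residueField η)) := by
      apply Spec.map_injective
      rw [← cancel_mono (X.fromSpecStalk y), Spec.map_comp, Spec.map_comp, Category.assoc, Category.assoc,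
        Scheme.SpecMap_stalkSpecializes_fromSpecStalk, Scheme.Spec_stalkClosedPointTo_fromSpecStalk]
      exact hl₁.symm
    have h3 := ConcreteCategory.congr_hom key b
    rw [← hb, show X.residue η ((X.presheaf.stalkSpecializes hy).hom b) = _ from h3]
    exact (Scheme.stalkClosedPointTo l b).2
  have h3 : c ∈ (integralClosure (Subring.closure (Set.range ψ)) (X.residueField η)).toSubring := by
    rw [← iInf_valuationSubring_superset, Subring.mem_iInf]
    exact fun V => hmem V.1 V.2
  obtain ⟨P, hP, hPc⟩ := h3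
  let j : Subring.closure (Set.range ψ) →+* X.residueField η := (Subring.closure (Set.range ψ)).subtype
  let ψ' : A →+* Subring.closure (Set.range ψ) :=
    ψ.codRestrict _ fun b => Subring.subset_closure ⟨b, rfl⟩
  have hs : Function.Surjective ψ' := by
    rintro ⟨w, hw⟩
    rw [← RingHom.coe_range, Subring.closure_eq] at hw
    obtain ⟨b, hb⟩ := hw
    exact ⟨b, Subtype.ext hb⟩
  obtain ⟨P', hP', -, hP''⟩ := Polynomial.lifts_and_degree_eq_and_monic
    ((Polynomial.map_surjective ψ' hs) P : P ∈ Polynomial.lifts ψ') hP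
  exact ⟨P', hP'', by rw [← hPc, ← hP', Polynomial.eval₂_map]; rfl⟩

omit [IsNoetherianRing A] [IsIntegrallyClosed A] [IsProper f] in
/-- The generic point of the base is not over the closed point. -/
theorem apply_genericPoint_ne (hdim : ringKrullDim A = 2) (hbir : Groth.L05.MinDesing.IsBir f) :
    f (genericPoint X) ≠ (cl : Spec (CommRingCat.of A)) := fun h => by
  obtain ⟨U, hU, hUi⟩ := id hbir
  obtain ⟨e', -⟩ := Groth.L05.PtSeq.ffMap_bijective f U hU
  rw [e', genericPoint_eq_bot_of_affine] at h
  have hA : IsField A := IsLocalRing.isField_iff_maximalIdeal_eq.2 (congrArg PrimeSpectrum.asIdeal h).symm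
  rw [ringKrullDim_eq_zero_of_isField hA] at hdim
  exact absurd hdim (by decide)

omit [IsLocalRing A] [IsNoetherianRing A] [IsIntegrallyClosed A] [IsProper f] in
/-- The natural map to the function field is injective. -/
theorem χ_genericPoint_injective (hbir : Groth.L05.MinDesing.IsBir f) :
    Function.Injective (χ f (genericPoint X)) := by
  obtain ⟨U, hU, hUi⟩ := id hbir
  obtain ⟨e', -⟩ := Groth.L05.PtSeq.ffMap_bijective f U hU
  refine (injective_iff_map_eq_zero _).2 fun b hb => ?_
  have h := comap_χ f (x := genericPoint X) (IsLocalRing.closedPoint (X.presheaf.stalk (genericPoint X)))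
  rw [Scheme.fromSpecStalk_closedPoint, e', genericPoint_eq_bot_of_affine] at h
  have h1 : b ∈ (IsLocalRing.closedPoint (X.presheaf.stalk (genericPoint X))).asIdeal.comap (χ f (genericPoint X)) :=
    Ideal.mem_comap.2 (hb ▸ Submodule.zero_mem _)
  rw [← h] at h1
  exact h1

omit [IsIntegrallyClosed A] in
/-- A point of the closed fibre with one-dimensional local ring is the generic point of its components. -/
theorem isGenericPoint_of_dim_one (hdim : ringKrullDim A = 2) (hbir : Groth.L05.MinDesing.IsBir f) {η : X}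
    (h : f η = (cl : Spec (CommRingCat.of A))) (hd : ringKrullDim (X.presheaf.stalk η) = 1)
    {C : Set ↥(f ⁻¹' {(cl : Spec (CommRingCat.of A))})}
    (hC : C ∈ irreducibleComponents ↥(f ⁻¹' {(cl : Spec (CommRingCat.of A))}))
    (hηC : (⟨η, h⟩ : ↥(f ⁻¹' {(cl : Spec (CommRingCat.of A))})) ∈ C) :
    IsGenericPoint (⟨η, h⟩ : ↥(f ⁻¹' {(cl : Spec (CommRingCat.of A))})) C := by
  haveI : IsLocallyNoetherian X := LocallyOfFiniteType.isLocallyNoetherian f
  have hgen := apply_genericPoint_ne f hdim hbir
  obtain ⟨ξ₀, hξ₀⟩ := QuasiSober.sober (hC.1.image Subtype.val continuous_subtype_val.continuousOn)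
    (((IsLocalRing.isClosed_singleton_closedPoint A).preimage f.continuous).isClosedMap_subtype_val C
      (isClosed_of_mem_irreducibleComponents C hC))
  obtain ⟨ξ, hξC, hξ'⟩ : ξ₀ ∈ Subtype.val '' C := hξ₀.mem
  have hξ : IsGenericPoint ξ C := by
    rw [IsGenericPoint, Topology.IsInducing.subtypeVal.closure_eq_preimage_closure_image, Set.image_singleton, hξ',
      hξ₀.def, Subtype.val_injective.preimage_image]
  suffices hξη : ξ = (⟨η, h⟩ : ↥(f ⁻¹' {(cl : Spec (CommRingCat.of A))})) by rwa [← hξη]
  refine Subtype.ext (not_not.1 fun hne => ?_)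
  have hs : (ξ : X) ⤳ η := (hξ.specializes hηC).map continuous_subtype_val
  have h1 := Groth.L22.CartierDecomp.succ_dim_le hs hne
  have h2 := Groth.L22.CartierDecomp.succ_dim_le ((genericPoint_spec X).specializes (Set.mem_univ (ξ : X)))
    fun h' => hgen (h' ▸ ξ.2)
  rw [hd] at h1
  have h3 : ringKrullDim (X.presheaf.stalk (genericPoint X)) = 0 :=
    ringKrullDim_eq_zero_of_isField (Field.toIsField X.functionField)
  rw [h3, zero_add] at h2
  have h4 := (add_le_add_left h2 1).trans h1
  exact absurd h4 (by decide)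

/-- A curve in the closed fibre has a closed point lying on no other, with a local function vanishing there,
not on the curve, and dividing a nonzero function of the maximal ideal of the base. -/
theorem exists_point_factor_curve (hdim : ringKrullDim A = 2) (hbir : Groth.L05.MinDesing.IsBir f) {η : X}
    (hη : f η = (cl : Spec (CommRingCat.of A))) (hd : ringKrullDim (X.presheaf.stalk η) = 1) :
    ∃ (x : X) (hx : η ⤳ x) (a : A), f x = (cl : Spec (CommRingCat.of A)) ∧
      (∀ η' : X, f η' = (cl : Spec (CommRingCat.of A)) → ringKrullDim (X.presheaf.stalk η') = 1 → η' ⤳ x → η' = η) ∧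
      a ≠ 0 ∧ a ∈ IsLocalRing.maximalIdeal A ∧
      ∃ g q : X.presheaf.stalk x, g ∈ IsLocalRing.maximalIdeal (X.presheaf.stalk x) ∧ χ f x a = g * q ∧
        IsUnit ((X.presheaf.stalkSpecializes hx).hom g) := by
  haveI : IsLocallyNoetherian X := LocallyOfFiniteType.isLocallyNoetherian f
  have hf : ¬ IsIso f := fun hf => by
    haveI := hf
    have h1 := ringKrullDim_eq_of_ringEquiv (asIso (f.stalkMap η)).commRingCatIsoToRingEquiv
    rw [hd, hη] at h1
    letI : Algebra A ((Spec (CommRingCat.of A)).presheaf.stalk cl) :=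
      inferInstanceAs (Algebra A ((Spec.structureSheaf A).presheaf.stalk cl))
    haveI : IsLocalization.AtPrime ((Spec (CommRingCat.of A)).presheaf.stalk cl) (IsLocalRing.maximalIdeal A) :=
      StructureSheaf.IsLocalization.to_stalk A cl
    rw [IsLocalization.AtPrime.ringKrullDim_eq_height (IsLocalRing.maximalIdeal A),
      IsLocalRing.maximalIdeal_height_eq_ringKrullDim, hdim] at h1
    exact absurd h1 (by decide)
  let E := ↥(f ⁻¹' {(cl : Spec (CommRingCat.of A))})
  have key : ∀ (η : X) (h : f η = (cl : Spec (CommRingCat.of A))), ringKrullDim (X.presheaf.stalk η) = 1 →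
      ∀ C ∈ irreducibleComponents E, (⟨η, h⟩ : E) ∈ C → IsGenericPoint (⟨η, h⟩ : E) C :=
    fun η h hd C hC hηC => isGenericPoint_of_dim_one f hdim hbir h hd hC hηC
  let C := irreducibleComponent (⟨η, hη⟩ : E)
  have hC : C ∈ irreducibleComponents E := irreducibleComponent_mem_irreducibleComponents _
  obtain ⟨x, ξ, hξx, a, hxC, hξ, hxc, honly, ha, g, q, hg, hgq, hu⟩ := exists_point_factor f hbir hf C hC
  obtain rfl : ξ = (⟨η, hη⟩ : E) := hξ.eq (key η hη hd C hC mem_irreducibleComponent)
  refine ⟨x, hξx, a, x.2, fun η' h' hd' hs => ?_, ha, not_not.1 fun h => ?_, g, q, hg, hgq, hu⟩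
  · have h1 := key η' h' hd' _ (irreducibleComponent_mem_irreducibleComponents (⟨η', h'⟩ : E)) mem_irreducibleComponent
    have h2 : x ∈ irreducibleComponent (⟨η', h'⟩ : E) :=
      ((subtype_specializes_iff _ _).2 hs : (⟨η', h'⟩ : E) ⤳ x).mem_closed isClosed_irreducibleComponent mem_irreducibleComponent
    have h3 : irreducibleComponent (⟨η', h'⟩ : E) = C :=
      not_not.1 fun hne => honly _ (irreducibleComponent_mem_irreducibleComponents _) hne h2
    exact congrArg Subtype.val ((h3 ▸ h1).eq hξ)
  · have h1 : IsUnit a := not_not.1 fun h' => h ((IsLocalRing.mem_maximalIdeal _).2 h')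
    have h2 : IsUnit (g * q) := hgq ▸ h1.map (χ f x)
    exact (IsLocalRing.mem_maximalIdeal _).1 hg (isUnit_of_mul_isUnit_left h2)

/-- Negativity: poles along the closed fibre that are compatible on a cover are no poles. -/
theorem negativity (hdim : ringKrullDim A = 2) (hn : Pi1.IsNormalScheme X) (hbir : Groth.L05.MinDesing.IsBir f)
    {ι : Type*} (U : ι → X.Opens) (hU : ∀ x, ∃ i, x ∈ U i) (z : ι → X.functionField)
    (h1 : ∀ i y, y ∈ U i → f y ≠ (cl : Spec (CommRingCat.of A)) →
      z i ∈ Set.range (algebraMap (X.presheaf.stalk y) X.functionField))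
    (h2 : ∀ i j y, y ∈ U i → y ∈ U j →
      z i - z j ∈ Set.range (algebraMap (X.presheaf.stalk y) X.functionField)) :
    ∀ i y, y ∈ U i → z i ∈ Set.range (algebraMap (X.presheaf.stalk y) X.functionField) := by
  classical
  haveI : IsLocallyNoetherian X := LocallyOfFiniteType.isLocallyNoetherian f
  haveI : CompactSpace X := QuasiCompact.compactSpace_of_compactSpace f
  haveI : AlgebraicGeometry.IsNoetherian X := {}
  let S : Type u := {η : X // f η = (cl : Spec (CommRingCat.of A)) ∧ ringKrullDim (X.presheaf.stalk η) = 1}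
  haveI hdvr : ∀ η : S, IsDiscreteValuationRing (X.presheaf.stalk (η : X)) := fun η => by
    haveI := (hn η).2
    exact Groth.L18.ValCritEss.isDVR_of_dim_one η.2.2
  let v : ∀ η : S, Valuation X.functionField ℤᵐ⁰ := fun η =>
    (IsDiscreteValuationRing.maximalIdeal (X.presheaf.stalk (η : X))).valuation X.functionField
  have hle : ∀ (η : S) (w : X.functionField),
      v η w ≤ 1 ↔ w ∈ Set.range (algebraMap (X.presheaf.stalk (η : X)) X.functionField) := fun η w =>
    ⟨fun h => IsDiscreteValuationRing.exists_lift_of_le_one h, fun ⟨b, hb⟩ => hb ▸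
      IsDedekindDomain.HeightOneSpectrum.valuation_le_one _ b⟩
  have hlt : ∀ (η : S) (b : X.presheaf.stalk (η : X)),
      v η (algebraMap _ X.functionField b) < 1 ↔ b ∈ IsLocalRing.maximalIdeal (X.presheaf.stalk (η : X)) :=
    fun η b => IsDedekindDomain.HeightOneSpectrum.valuation_lt_one_iff_mem _ b
  -- regularity is decided on the curves of the closed fibre
  have hreg : ∀ (y : X) (w : X.functionField),
      (∀ η : X, η ⤳ y → f η ≠ (cl : Spec (CommRingCat.of A)) →
        w ∈ Set.range (algebraMap (X.presheaf.stalk η) X.functionField)) →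
      (∀ η : S, (η : X) ⤳ y → v η w ≤ 1) →
      w ∈ Set.range (algebraMap (X.presheaf.stalk y) X.functionField) := fun y w ha hb =>
    mem_range_of_dim_one hn y w fun η hη hd => (em (f η = (cl : Spec (CommRingCat.of A)))).elim
      (fun he => (hle ⟨η, he, hd⟩ w).1 (hb ⟨η, he, hd⟩ hη)) fun he => ha η hη he
  suffices hgood : ∀ (η : S) i, (η : X) ∈ U i → v η (z i) ≤ 1 by
    intro i y hy
    exact hreg y _ (fun η hη he => h1 i η (hη.mem_open (U i).2 hy) he) fun η hη =>
      hgood η i (hη.mem_open (U i).2 hy)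
  by_contra hbad
  push Not at hbad
  obtain ⟨η₁, i₁, hi₁, hv₁⟩ := hbad
  choose x hx a hfx honly ha0 ham g q hg hgq hu using fun η : S => exists_point_factor_curve f hdim hbir η.2.1 η.2.2
  haveI : Finite S := by
    haveI : NoetherianSpace ↥(f ⁻¹' {(cl : Spec (CommRingCat.of A))}) := Topology.IsInducing.subtypeVal.noetherianSpace
    haveI : Finite ↥(irreducibleComponents ↥(f ⁻¹' {(cl : Spec (CommRingCat.of A))})) :=
      NoetherianSpace.finite_irreducibleComponents.to_subtype
    refine Finite.of_injective (fun η : S => (⟨irreducibleComponent ⟨η, η.2.1⟩,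
      irreducibleComponent_mem_irreducibleComponents _⟩ :
      ↥(irreducibleComponents ↥(f ⁻¹' {(cl : Spec (CommRingCat.of A))})))) fun η η' h => Subtype.ext ?_
    have e := congrArg Subtype.val h
    dsimp only at e
    have g' := isGenericPoint_of_dim_one f hdim hbir η'.2.1 η'.2.2
      (irreducibleComponent_mem_irreducibleComponents _) mem_irreducibleComponent
    rw [← e] at g'
    exact congrArg (fun e : ↥(f ⁻¹' {(cl : Spec (CommRingCat.of A))}) => (e : X)) ((isGenericPoint_of_dim_one f hdim hbir η.2.1 η.2.2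
      (irreducibleComponent_mem_irreducibleComponents _) mem_irreducibleComponent).eq g')
  haveI := Fintype.ofFinite S
  let a₀ : A := ∏ η : S, a η
  let aK : X.functionField := χ f (genericPoint X) a₀
  have haK : aK ≠ 0 := by
    exact fun h => Finset.prod_ne_zero_iff.2 (fun η _ => ha0 η)
      (χ_genericPoint_injective f hbir (h.trans (map_zero _).symm))
  have hva : ∀ η : S, v η aK < 1 := fun η => by
    rw [show aK = algebraMap _ X.functionField (χ f (η : X) a₀) from (algebraMap_χ f _ _).symm, hlt]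
    refine χ_mem_maximalIdeal f η.2.1 ?_
    rw [show a₀ = a η * ∏ η' ∈ Finset.univ.erase η, a η' from
      (Finset.mul_prod_erase _ _ (Finset.mem_univ η)).symm]
    exact Ideal.mul_mem_right _ _ (ham η)
  choose ix hix using hU
  -- the pole order and the order of `aK`
  let d : S → ℤ := fun η => max (WithZero.log (v η (z (ix η)))) 0
  let w : S → ℤ := fun η => -WithZero.log (v η aK)
  have hw : ∀ η, 0 < w η := fun η => neg_pos.2 (WithZero.log_one (M := ℤ) ▸
    (WithZero.log_lt_log ((v η).ne_zero_iff.2 haK) one_ne_zero).2 (hva η))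
  have hsame : ∀ (η : S) i j, (η : X) ∈ U i → (η : X) ∈ U j → 1 < v η (z i) → v η (z j) = v η (z i) := by
    intro η i j hi hj h
    have h' : v η (z j - z i) < v η (z i) := ((hle η _).2 (h2 j i η hj hi)).trans_lt h
    simpa using Valuation.map_add_eq_of_lt_left (v η) h'
  have hlog : ∀ (η : S) i, (η : X) ∈ U i → WithZero.log (v η (z i)) ≤ d η := by
    intro η i hi
    by_cases h : 1 < v η (z i)
    · exact (hsame η i _ hi (hix η) h ▸ le_max_left _ _)
    · refine le_max_of_le_right ?_
      by_cases h0 : v η (z i) = 0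
      · rw [h0, WithZero.log_zero]
      · exact WithZero.log_one (M := ℤ) ▸ (WithZero.log_le_log h0 one_ne_zero).2 (not_lt.1 h)
  obtain ⟨η₀, -, hmax⟩ := Finset.exists_max_image Finset.univ (fun η => (d η : ℚ) / w η) ⟨η₁, Finset.mem_univ _⟩
  have hmax' : ∀ η, d η * w η₀ ≤ d η₀ * w η := fun η => by
    have h := (div_le_div_iff₀ (by exact_mod_cast hw η) (by exact_mod_cast hw η₀)).1 (hmax η (Finset.mem_univ _))
    exact_mod_cast h
  have hd₀ : 0 < d η₀ := by
    have h3 : 0 < WithZero.log (v η₁ (z i₁)) := WithZero.log_one (M := ℤ) ▸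
      (WithZero.log_lt_log one_ne_zero (ne_zero_of_lt hv₁)).2 hv₁
    have h4 := hmax' η₁
    have h5 := hlog η₁ i₁ hi₁
    by_contra h6
    nlinarith [hw η₀, hw η₁]
  obtain ⟨p, hp⟩ : ∃ p : ℕ, (p : ℤ) = d η₀ := ⟨(d η₀).toNat, Int.toNat_of_nonneg hd₀.le⟩
  obtain ⟨r, hr⟩ : ∃ r : ℕ, (r : ℤ) = w η₀ := ⟨(w η₀).toNat, Int.toNat_of_nonneg (hw η₀).le⟩
  have hp0 : p ≠ 0 := by rintro rfl; simp [← hp] at hd₀
  have hr0 : r ≠ 0 := by rintro rfl; have := hw η₀; simp [← hr] at this
  let φ : ι → X.functionField := fun i => z i ^ r * aK ^ p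
  have hφlog : ∀ (η : S) i, z i ≠ 0 →
      WithZero.log (v η (φ i)) = r * WithZero.log (v η (z i)) - p * w η := by
    intro η i h
    have h' := (v η).ne_zero_iff.2 h
    have h'' := (v η).ne_zero_iff.2 haK
    rw [show v η (φ i) = v η (z i) ^ r * v η aK ^ p by simp [φ],
      WithZero.log_mul (pow_ne_zero _ h') (pow_ne_zero _ h''), WithZero.log_pow, WithZero.log_pow]
    simp [w]
  have hφle : ∀ (η : S) i, (η : X) ∈ U i → v η (φ i) ≤ 1 := by
    intro η i hi
    by_cases h : z i = 0
    · simp [φ, h, zero_pow hr0]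
    have h' : φ i ≠ 0 := mul_ne_zero (pow_ne_zero _ h) (pow_ne_zero _ haK)
    rw [← WithZero.log_le_log ((v η).ne_zero_iff.2 h') one_ne_zero, WithZero.log_one, hφlog η i h, hp, hr]
    nlinarith [hmax' η, hlog η i hi, hw η₀]
  have hφreg : ∀ i y, y ∈ U i → φ i ∈ Set.range (algebraMap (X.presheaf.stalk y) X.functionField) := by
    intro i y hy
    refine hreg y _ (fun η hη he => ?_) fun η hη => hφle η i (hη.mem_open (U i).2 hy)
    obtain ⟨b, hb⟩ := h1 i η (hη.mem_open (U i).2 hy) he
    exact ⟨b ^ r * χ f η a₀ ^ p, by rw [map_mul, map_pow, map_pow, hb, algebraMap_χ]⟩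
  have hη₀i : ∀ i, (η₀ : X) ∈ U i → WithZero.log (v η₀ (z i)) = d η₀ ∧ 1 < v η₀ (z i) ∧ z i ≠ 0 := by
    have h3 : d η₀ = WithZero.log (v η₀ (z (ix η₀))) := max_eq_left (le_of_not_ge fun h => hd₀.ne' (max_eq_right h))
    have h4 : 1 < v η₀ (z (ix η₀)) := not_le.1 fun h => by
      by_cases h0 : v η₀ (z (ix η₀)) = 0
      · rw [h0, WithZero.log_zero] at h3; exact hd₀.ne' h3
      · have := (WithZero.log_le_log h0 one_ne_zero).2 h
        rw [WithZero.log_one, ← h3] at this
        exact hd₀.not_ge this
    intro i hi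
    have h5 := hsame η₀ _ i (hix η₀) hi h4
    refine ⟨by rw [h5, h3], h5 ▸ h4, fun h => ?_⟩
    rw [← h5, h, map_zero] at h4
    exact not_lt_zero h4
  have hdiff : ∀ i j, (η₀ : X) ∈ U i → (η₀ : X) ∈ U j → v η₀ (φ i - φ j) < 1 := by
    intro i j hi hj
    obtain ⟨hl, hv, hz⟩ := hη₀i i hi
    have he : φ i - φ j = aK ^ p * ((∑ l ∈ Finset.range r, z i ^ l * z j ^ (r - 1 - l)) * (z i - z j)) := by
      rw [geom_sum₂_mul]; ring
    have hsum : v η₀ (∑ l ∈ Finset.range r, z i ^ l * z j ^ (r - 1 - l)) ≤ v η₀ (z i) ^ (r - 1) := by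
      refine Valuation.map_sum_le _ fun l hl => ?_
      rw [map_mul, map_pow, map_pow, hsame η₀ i j hi hj hv, ← pow_add,
        Nat.add_sub_cancel' (by have := Finset.mem_range.1 hl; omega)]
    rw [he, map_mul, map_mul, map_pow]
    refine lt_of_le_of_lt (mul_le_mul' le_rfl ((mul_le_mul' hsum ((hle η₀ _).2 (h2 i j η₀ hi hj))).trans_eq (mul_one _))) ?_
    have hz' := (v η₀).ne_zero_iff.2 hz
    have ha' := (v η₀).ne_zero_iff.2 haK
    rw [← WithZero.log_lt_log (mul_ne_zero (pow_ne_zero _ ha') (pow_ne_zero _ hz')) one_ne_zero, WithZero.log_one,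
      WithZero.log_mul (pow_ne_zero _ ha') (pow_ne_zero _ hz'), WithZero.log_pow, WithZero.log_pow, hl]
    have hr' : ((r - 1 : ℕ) : ℤ) = w η₀ - 1 := by rw [← hr]; omega
    simp only [nsmul_eq_mul, hp, hr', show WithZero.log (v η₀ aK) = -w η₀ from (neg_neg _).symm]
    nlinarith
  -- the common residue
  obtain ⟨b₀, hb₀⟩ := hφreg (ix η₀) η₀ (hix η₀)
  let c := IsLocalRing.residue (X.presheaf.stalk (η₀ : X)) b₀
  have hc : ∀ y (hy : (η₀ : X) ⤳ y) i, y ∈ U i → ∀ b : X.presheaf.stalk y,
      algebraMap _ X.functionField b = φ i →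
        IsLocalRing.residue _ ((X.presheaf.stalkSpecializes hy).hom b) = c := by
    intro y hy i hi b hb
    refine Ideal.Quotient.eq.2 ((hlt η₀ _).1 ?_)
    rw [map_sub, algebraMap_stalkSpecializes, hb, hb₀]
    exact hdiff _ _ (hy.mem_open (U i).2 hi) (hix η₀)
  have hc0 : c ≠ 0 := by
    intro h
    have h' : v η₀ (φ (ix η₀)) < 1 := hb₀ ▸ (hlt η₀ b₀).2 ((IsLocalRing.residue_eq_zero_iff _).1 h)
    obtain ⟨hl, -, hz⟩ := hη₀i _ (hix η₀)
    rw [← WithZero.log_lt_log ((v η₀).ne_zero_iff.2 (mul_ne_zero (pow_ne_zero _ hz) (pow_ne_zero _ haK))) one_ne_zero,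
      WithZero.log_one, hφlog η₀ _ hz, hl, hp, hr] at h'
    nlinarith
  let ψ : A →+* IsLocalRing.ResidueField (X.presheaf.stalk (η₀ : X)) :=
    (IsLocalRing.residue _).comp (χ f (η₀ : X))
  -- properness: the residue is integral over the base
  have hint : ψ.IsIntegralElem c := isIntegralElem_of_forall_center f (η₀ : X) c fun y hy => by
    obtain ⟨b, hb⟩ := hφreg (ix y) y (hix y)
    exact ⟨b, hc y hy _ (hix y) b hb⟩
  obtain ⟨P, hP, hPc⟩ := hint
  -- but it vanishes at the chosen point
  obtain ⟨m, hm⟩ := hφreg (ix (x η₀)) (x η₀) (hix _)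
  have hmem : m ∈ IsLocalRing.maximalIdeal (X.presheaf.stalk (x η₀)) := by
    let j := ix (x η₀)
    let gK : X.functionField := algebraMap _ X.functionField (g η₀)
    let qK : X.functionField := algebraMap _ X.functionField (q η₀ * χ f (x η₀) (∏ η ∈ Finset.univ.erase η₀, a η))
    have hgqK : aK = gK * qK := by
      rw [← map_mul, ← mul_assoc, ← hgq, ← map_mul (χ f (x η₀)), Finset.mul_prod_erase _ _ (Finset.mem_univ η₀),
        algebraMap_χ]
    have hgu : v η₀ gK = 1 := by
      refine le_antisymm ((hle η₀ _).2 ?_) (not_lt.1 fun h => ?_)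
      · exact ⟨_, algebraMap_stalkSpecializes (hx η₀) _⟩
      · rw [show gK = _ from (algebraMap_stalkSpecializes (hx η₀) (g η₀)).symm, hlt] at h
        exact (IsLocalRing.mem_maximalIdeal _).1 h (hu η₀)
    have hh : z j ^ r * qK ^ p ∈ Set.range (algebraMap (X.presheaf.stalk (x η₀)) X.functionField) := by
      refine hreg _ _ (fun η hη he => ?_) fun η hη => ?_
      · obtain ⟨b, hb⟩ := h1 j η (hη.mem_open (U j).2 (hix _)) he
        exact ⟨b ^ r * (X.presheaf.stalkSpecializes hη).hom
          (q η₀ * χ f (x η₀) (∏ η ∈ Finset.univ.erase η₀, a η)) ^ p,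
          by rw [map_mul, map_pow, map_pow, hb, algebraMap_stalkSpecializes]⟩
      · obtain rfl : η = η₀ := Subtype.ext (honly η₀ η η.2.1 η.2.2 hη)
        have h3 := hφle η j (hη.mem_open (U j).2 (hix _))
        have h4 : φ j = gK ^ p * (z j ^ r * qK ^ p) := by simp only [φ, hgqK]; ring
        rwa [h4, map_mul, map_pow, hgu, one_pow, one_mul] at h3
    obtain ⟨b, hb⟩ := hh
    have h4 : m = g η₀ ^ p * b := IsFractionRing.injective _ X.functionField (by
      rw [map_mul, map_pow, hb, hm]; simp only [φ, hgqK]; ring)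
    exact h4 ▸ Ideal.mul_mem_right _ _ (Ideal.pow_mem_of_mem _ (hg η₀) p (Nat.pos_of_ne_zero hp0))
  let τ : X.presheaf.stalk (x η₀) →+* IsLocalRing.ResidueField (X.presheaf.stalk (η₀ : X)) :=
    (IsLocalRing.residue _).comp (X.presheaf.stalkSpecializes (hx η₀)).hom
  have hτ : τ m = c := hc _ (hx η₀) _ (hix _) m hm
  have hψ : τ.comp (χ f (x η₀)) = ψ := by
    ext b
    exact congrArg (IsLocalRing.residue _)
      (TopCat.Presheaf.germ_stalkSpecializes_apply X.presheaf (show x η₀ ∈ (⊤ : X.Opens) from trivial) (hx η₀) _)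
  refine false_of_eval (χ f (x η₀)) τ (fun b hb => ?_) hmem (hτ.symm ▸ hc0) P.natDegree P
    (by rw [show P.coeff P.natDegree = 1 from hP]; exact isUnit_one) (by rw [hψ, hτ]; exact hPc)
  exact (RingHom.congr_fun hψ b).trans ((IsLocalRing.residue_eq_zero_iff _).2 (χ_mem_maximalIdeal f η₀.2.1 hb))

end Groth.L05.FibreFactor
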